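import Cfsg.Agent.H226.Tall.Defs
import Cfsg.Agent.EvenType.ChevTwoTits
import Cfsg.Agent.Mrg.Omega.TwoF.RowTh_m3
import Cfsg.Agent.FastGrp
import Cfsg.Agent.Prune
set_option linter.all false
prune_inst 0x7f00000000000000000000000000000000000000000000000000000000000000000000000000000000000000000000000000000000000000000000000000000000000000000000000000000000000000003fffffffffffffffffffffffffffbeffbdffffffff
open scoped Cfsg.Agent.FastGrp

/-!
# S2927, row of the Tits group (helper371, task 5483)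

* `cp_of_index` : a group with a normal subgroup of 2-power index and of characteristic 2 is of characteristic 2;
* `no1_tits`, `rowTwo_tits`.
-/

set_option autoImplicit false

namespace Cfsg.Agent.H371.Tall

open Subgroup Cfsg Cfsg.Agent.Lib.Cores
open Cfsg.Agent.H239.CharPLocal (CP)
open Cfsg.Agent.H226.Tall Cfsg.Agent.TitsK

universe u

section index

variable {G : Type*} [Group G]

/-- a normal subgroup of 2-power index and of characteristic 2 -/
theorem cp_of_index {N : Subgroup G} [hN : N.Normal] (h : CP 2 ↥N) {k : ℕ} (hk : N.index = 2 ^ k) : CP 2 G := by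
  have hfact : Fact (Nat.Prime 2) := ⟨Nat.prime_two⟩
  set R : Subgroup G := (pCore 2 ↥N).map N.subtype with hR
  have hRn : R.Normal := by
    refine ⟨?_⟩
    rintro _ ⟨r, hr, rfl⟩ g
    refine ⟨MulAut.conjNormal g r, ?_, MulAut.conjNormal_apply g r⟩
    have h1 := map_equiv_pCore (MulAut.conjNormal g : ↥N ≃* ↥N) 2
    rw [← h1]
    exact ⟨r, hr, rfl⟩
  have hRp : IsPGroup 2 ↥R := (pCore_isPGroup 2).map _
  have hC : IsPGroup 2 ↥(centralizer (R : Set G)) := by
    rintro ⟨c, hc⟩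
    have h1 : c ^ 2 ^ k ∈ N := by
      rw [← hk]
      exact N.pow_index_mem c
    have h2 : (⟨c ^ 2 ^ k, h1⟩ : ↥N) ∈ centralizer (pCore 2 ↥N : Set ↥N) := by
      rw [mem_centralizer_iff]
      intro r hr
      apply Subtype.ext
      exact mem_centralizer_iff.1 (pow_mem hc (2 ^ k)) (r : G) ⟨r, hr, rfl⟩
    obtain ⟨m, hm⟩ := (pCore_isPGroup (G := ↥N) 2) ⟨_, h h2⟩
    refine ⟨k + m, Subtype.ext ?_⟩
    have h3 : (c ^ 2 ^ k) ^ 2 ^ m = 1 := congrArg (fun t => ((t : ↥N) : G)) (congrArg Subtype.val hm)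
    show c ^ 2 ^ (k + m) = 1
    rw [pow_add, pow_mul, h3]
  have h1 : centralizer (R : Set G) ≤ pCore 2 G := le_pCore inferInstance hC
  intro c hc
  exact h1 (centralizer_le (fun r hr => le_pCore hRn hRp hr) hc)

end index

section tits

/-- an involution of `G` is in `K`, if `K` is normal with trivial centralizer and has no outer automorphisms of order 2 -/
theorem mem_of_no_outer {G : Type*} [Group G] {K : Subgroup G} [K.Normal] (hC : centralizer (K : Set G) = ⊥)
    (h : ∀ α : MulAut ↥K, α * α = 1 → ∃ t : ↥K, α = MulAut.conj t) {x : G} (hx : x * x = 1) : x ∈ K := by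
  obtain ⟨t, ht⟩ := h (MulAut.conjNormal x) (by rw [← map_mul, hx, map_one])
  have h8 : (t : G)⁻¹ * x ∈ centralizer (K : Set G) := by
    rw [mem_centralizer_iff]
    intro k hk
    have h9 : x * k * x⁻¹ = (t : G) * k * (t : G)⁻¹ := by
      have h7 := congrArg Subtype.val (DFunLike.congr_fun ht ⟨k, hk⟩)
      rw [MulAut.conjNormal_apply] at h7
      exact h7
    calc k * ((t : G)⁻¹ * x) = (t : G)⁻¹ * ((t : G) * k * (t : G)⁻¹) * x := by group
      _ = (t : G)⁻¹ * (x * k * x⁻¹) * x := by rw [h9]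
      _ = (t : G)⁻¹ * x * k := by group
  rw [hC, mem_bot, inv_mul_eq_one] at h8
  rw [← h8]
  exact t.2

/-- the Tits group has no outer automorphisms of order 2 -/
theorem no_outer_abs {G : Type*} [Group G] [Finite G] (D : TData G) {K : Type u} [Group K] (e : K ≃* ↥D.T) (α : MulAut K)
    (h : α * α = 1) : ∃ t : K, α = MulAut.conj t := by
  by_contra hcon
  refine D.no_outer_aut (MulAut.congr e α) ?_ (by rw [← map_mul, h, map_one])
  rintro ⟨t, ht⟩
  refine hcon ⟨e.symm t, ?_⟩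
  apply (MulAut.congr e).injective
  rw [ht]
  ext x
  show ((t * x * t⁻¹ : ↥D.T) : G) = (e (e.symm t * e.symm x * (e.symm t)⁻¹) : G)
  rw [map_mul, map_mul, map_inv, e.apply_symm_apply, e.apply_symm_apply]

theorem no_outer {K : Type u} [Group K] (h : Lie.IsoTits K) (α : MulAut K) (ha : α * α = 1) :
    ∃ t : K, α = MulAut.conj t := by
  obtain ⟨e⟩ := h
  obtain ⟨e'⟩ := exists_equiv
  exact no_outer_abs tdata (e.trans e') α ha

/-- `O₂(L)`-form: the centralizer of an involution of `K` has characteristic 2, `K` of characteristic 2 type and of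
2-power index -/
theorem cp_centralizer {G : Type u} [Group G] [Finite G] {K : Subgroup G} [K.Normal] (hct : IsCharacteristicTwoType ↥K)
    {k : ℕ} (hk : K.index ∣ 2 ^ k) {x : G} (hx : x ∈ K) (ho : orderOf x = 2) : CP 2 ↥(centralizer ({x} : Set G)) := by
  have hfact : Fact (Nat.Prime 2) := ⟨Nat.prime_two⟩
  set L : Subgroup G := centralizer ({x} : Set G) with hL
  -- `C_K(x)`
  have hne : (⟨x, hx⟩ : ↥K) ≠ 1 := by
    intro h
    have h1 : x = 1 := congrArg Subtype.val h
    rw [h1, orderOf_one] at ho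
    omega
  have hox : orderOf (⟨x, hx⟩ : ↥K) = 2 := by
    rw [← ho, ← orderOf_coe]
  have h1 := hct.2 (zpowers (⟨x, hx⟩ : ↥K)) (IsPGroup.of_card (n := 1) (by rw [Nat.card_zpowers, hox, pow_one]))
    (by rwa [Ne, zpowers_eq_bot])
  have h2 : normalizer ((zpowers (⟨x, hx⟩ : ↥K) : Subgroup ↥K) : Set ↥K) = centralizer ({(⟨x, hx⟩ : ↥K)} : Set ↥K) := by
    ext g
    rw [mem_centralizer_singleton_iff]
    constructor
    · intro hg
      have h3 := (mem_normalizer_iff.1 hg ⟨x, hx⟩).1 (mem_zpowers _)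
      obtain ⟨n, hn⟩ := mem_zpowers_iff.1 h3
      have h4 : g * ⟨x, hx⟩ * g⁻¹ = 1 ∨ g * ⟨x, hx⟩ * g⁻¹ = ⟨x, hx⟩ := by
        rw [← hn]
        have hsq : (⟨x, hx⟩ : ↥K) ^ (2 : ℤ) = 1 := by
          have h5 := pow_orderOf_eq_one (⟨x, hx⟩ : ↥K)
          rw [hox] at h5
          rw [← h5]
          exact zpow_natCast _ 2
        rcases Int.even_or_odd n with ⟨m, rfl⟩ | ⟨m, rfl⟩
        · left
          rw [← two_mul, zpow_mul, hsq, one_zpow]
        · right
          rw [zpow_add, zpow_mul, hsq, one_zpow, one_mul, zpow_one]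
      rcases h4 with h4 | h4
      · exfalso
        apply hne
        have : (⟨x, hx⟩ : ↥K) = g⁻¹ * (g * ⟨x, hx⟩ * g⁻¹) * g := by group
        rw [this, h4]; group
      · rwa [mul_inv_eq_iff_eq_mul] at h4
    · intro hg
      rw [mem_normalizer_iff]
      intro y
      have key : ∀ (c : ↥K), c * ⟨x, hx⟩ = ⟨x, hx⟩ * c → ∀ y ∈ zpowers (⟨x, hx⟩ : ↥K), c * y * c⁻¹ ∈ zpowers (⟨x, hx⟩ : ↥K) := by
        intro c hc y hy
        obtain ⟨n, rfl⟩ := mem_zpowers_iff.1 hy
        have h3 : Commute c (⟨x, hx⟩ ^ n) := Commute.zpow_right hc n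
        rw [h3.eq, mul_inv_cancel_right]
        exact hy
      constructor
      · exact key g hg y
      · intro hy
        have h3 := key g⁻¹ (by
          have h4 : Commute g⁻¹ (⟨x, hx⟩ : ↥K) := Commute.inv_left hg
          exact h4) _ hy
        have e : g⁻¹ * (g * y * g⁻¹) * g⁻¹⁻¹ = y := by group
        rwa [e] at h3
  have h3 : CP 2 ↥(centralizer ({(⟨x, hx⟩ : ↥K)} : Set ↥K)) := by
    have h4 : CP 2 ↥(normalizer ((zpowers (⟨x, hx⟩ : ↥K) : Subgroup ↥K) : Set ↥K)) := h1
    rwa [h2] at h4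
  -- transport to `K.subgroupOf L`
  let f : ↥(centralizer ({(⟨x, hx⟩ : ↥K)} : Set ↥K)) ≃* ↥(K.subgroupOf L) :=
    { toFun := fun g => ⟨⟨(g : ↥K), mem_centralizer_singleton_iff.2
        (congrArg Subtype.val (mem_centralizer_singleton_iff.1 g.2))⟩, (g : ↥K).2⟩
      invFun := fun g => ⟨⟨(g : ↥L), g.2⟩, mem_centralizer_singleton_iff.2
        (Subtype.ext (mem_centralizer_singleton_iff.1 (g : ↥L).2))⟩
      left_inv := fun g => rfl
      right_inv := fun g => rfl
      map_mul' := fun g h => rfl }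
  have h4 : CP 2 ↥(K.subgroupOf L) := h3.of_equiv f
  have h5 : (K.subgroupOf L).index ∣ 2 ^ k := (relIndex_dvd_index_of_normal K L).trans hk
  obtain ⟨m, -, hm⟩ := (Nat.dvd_prime_pow Nat.prime_two).1 h5
  exact cp_of_index h4 hm

/-- **row `K` = Tits group, `F*(G) = K`** -/
theorem no1_tits : No1.{u} (fun K _ => Lie.IsoTits K) := by
  intro G _ _ S Q M Y x K h hK
  have hn := h.nK
  have hxx : x * x = 1 := by rw [← pow_two, ← h.x_ord, pow_orderOf_eq_one]
  have hxK : x ∈ K := mem_of_no_outer h.cent (no_outer hK) hxx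
  have hct : IsCharacteristicTwoType ↥K := Cfsg.Agent.EvenType.ChevTwoTits.charTwo hK
  have hle := Cfsg.Agent.TitsK.index_le hK K ⟨MulEquiv.refl _⟩ h.cent
  have hpos : K.index ≠ 0 := K.index_ne_zero_of_finite
  have hk : K.index ∣ 2 ^ 1 := by
    rcases (show K.index = 1 ∨ K.index = 2 by omega) with h1 | h1 <;> rw [h1] <;> norm_num
  exact h.x_bad (cp_centralizer hct hk hxK h.x_ord)

/-- no centralizer of a 2-central involution is a 2-group -/
theorem rowTwo_abs {G : Type*} [Group G] [Finite G] (D : TData G) : RowTwo ↥D.T := by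
  rintro z ⟨hz, P, hP⟩ h2
  have hz1 : z ≠ 1 := by
    rintro rfl
    rw [orderOf_one] at hz
    omega
  obtain ⟨g, hg⟩ := D.exists_syl P
  have hc : ∀ s ∈ P, s * z = z * s := fun s hs => mem_centralizer_singleton_iff.1 (hP hs)
  have h1 := D.z_of_central P hg hz1 hc
  have heq := P.is_maximal' h2 hP
  have h3 : g * ⟨D.zbm, D.zbm_mem⟩ * g⁻¹ ∈ centralizer ({z} : Set ↥D.T) := by
    rw [mem_centralizer_singleton_iff]
    apply Subtype.ext
    show (g : G) * D.zbm * (g : G)⁻¹ * z = z * ((g : G) * D.zbm * (g : G)⁻¹)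
    rw [h1]
    have h4 := D.zbm_z
    rw [mul_inv_eq_iff_eq_mul] at h4
    have e1 : (g : G) * D.zbm * (g : G)⁻¹ * (g * D.z * (g : G)⁻¹) = g * (D.zbm * D.z) * (g : G)⁻¹ := by group
    have e2 : g * D.z * (g : G)⁻¹ * ((g : G) * D.zbm * (g : G)⁻¹) = g * (D.z * D.zbm) * (g : G)⁻¹ := by group
    rw [e1, e2, h4]
  rw [heq] at h3
  have h4 := (hg _).1 h3
  have e : g⁻¹ * (g * ⟨D.zbm, D.zbm_mem⟩ * g⁻¹) * g = (⟨D.zbm, D.zbm_mem⟩ : ↥D.T) := by group
  rw [e] at h4
  have h5 : D.zbm ∈ D.U := ((D.mem_S).1 ((D.mem_syl).1 h4)).1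
  exact D.zbm_ne (D.opp _ h5 D.zbm_opp)

theorem rowTwo_congr {K L : Type*} [Group K] [Group L] (e : K ≃* L) (h : RowTwo K) : RowTwo L := by
  rintro z ⟨hz, P, hP⟩ h2
  have hfin : (e.symm z : K) ≠ 1 := by
    intro h3
    have : z = 1 := by rw [← e.apply_symm_apply z, h3, map_one]
    rw [this, orderOf_one] at hz
    omega
  have hm : ∀ c : K, c ∈ centralizer ({e.symm z} : Set K) ↔ e c ∈ centralizer ({z} : Set L) := by
    intro c
    rw [mem_centralizer_singleton_iff, mem_centralizer_singleton_iff]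
    constructor
    · intro h3
      have h4 := congrArg e h3
      rwa [map_mul, map_mul, e.apply_symm_apply] at h4
    · intro h3
      apply e.injective
      rw [map_mul, map_mul, e.apply_symm_apply, h3]
  refine h (e.symm z) ⟨?_, ?_⟩ ?_
  · rw [← hz]
    exact (orderOf_injective e.symm.toMonoidHom e.symm.injective z)
  · refine ⟨P.comapOfInjective e.toMonoidHom e.injective (fun y _ => ⟨e.symm y, e.apply_symm_apply y⟩), ?_⟩
    intro c hc
    exact (hm c).2 (hP hc)
  · rintro ⟨c, hc⟩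
    obtain ⟨k, hk⟩ := h2 ⟨e c, (hm c).1 hc⟩
    refine ⟨k, Subtype.ext ?_⟩
    have h3 : (e c) ^ 2 ^ k = 1 := congrArg Subtype.val hk
    rw [← map_pow] at h3
    exact e.injective (h3.trans (map_one e).symm)

theorem rowTwo_of_equiv {G : Type*} [Group G] [Finite G] (D : TData G) {K : Type*} [Group K] (e : K ≃* ↥D.T) :
    RowTwo K := rowTwo_congr e.symm (rowTwo_abs D)

theorem rowTwo_tits {K : Type u} [Group K] (h : Lie.IsoTits K) : RowTwo K := by
  obtain ⟨e⟩ := h
  obtain ⟨e'⟩ := exists_equiv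
  exact rowTwo_of_equiv tdata (e.trans e')

end tits

end Cfsg.Agent.H371.Tall
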